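import Cfsg.Agent.Lib.OmPres.Glue
import Cfsg.Agent.Lib.Classical.OrthCenter
import Cfsg.Agent.Lib.SLPres.Swap.Main
import Cfsg.Agent.Lib.AltPres.TwoGen.Pair

/-!
# The centre is cyclic; the presentations
-/

set_option autoImplicit false
set_option linter.unusedSectionVars false

namespace CfsgLib.OmPres

open Matrix
open CfsgLib.SLPres (Presents)
open CfsgLib.Orth
open scoped MatrixGroups

variable {F : Type*} [Field F] [Fintype F]

theorem finite_omega (n : ℕ) : Finite (Cfsg.Omega F (Cfsg.quadFormPlus n F)) :=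
  Finite.of_injective
    (fun A => (((A : Cfsg.isometryGroup F (Cfsg.quadFormPlus n F)) : GL (Fin n ⊕ Fin n) F) :
      Matrix (Fin n ⊕ Fin n) (Fin n ⊕ Fin n) F))
    fun A B e => Subtype.ext (Subtype.ext (Units.ext e))

theorem center_cyclic {n : ℕ} (hn : 3 ≤ n) :
    IsCyclic (Subgroup.center (Cfsg.Omega F (Cfsg.quadFormPlus n F))) := by
  haveI := finite_omega (F := F) n
  have h5 : 5 ≤ Module.finrank F (Fin n ⊕ Fin n → F) := by
    rw [Module.finrank_fintype_fun_eq_card, Fintype.card_sum, Fintype.card_fin]; omega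
  have hΩ : Cfsg.Omega F (Cfsg.quadFormPlus n F) = El (qP F n) := omega_eq_El (qP_nondeg n) h5
  let Z := Subgroup.center (Cfsg.Omega F (Cfsg.quadFormPlus n F))
  let i : Fin n ⊕ Fin n := Sum.inl ⟨0, by omega⟩
  let mat : Z → Matrix (Fin n ⊕ Fin n) (Fin n ⊕ Fin n) F := fun z =>
    ((((z : Cfsg.Omega F (Cfsg.quadFormPlus n F)) : Cfsg.isometryGroup F (Cfsg.quadFormPlus n F)) :
      GL (Fin n ⊕ Fin n) F) : Matrix (Fin n ⊕ Fin n) (Fin n ⊕ Fin n) F)
  have hinj : Function.Injective mat := fun A B e =>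
    Subtype.ext (Subtype.ext (Subtype.ext (Units.ext e)))
  have key : ∀ z : Z, ∃ c : F, mat z = c • 1 := fun z => by
    rcases commute_El_scalar (Q := qP F n) (qP_nondeg n) h5
      (x := ((z : Cfsg.Omega F (Cfsg.quadFormPlus n F)) : Cfsg.isometryGroup F (Cfsg.quadFormPlus n F)))
      (fun a ha => congrArg Subtype.val (Subgroup.mem_center_iff.1 z.2 ⟨a, hΩ ▸ ha⟩)) with h | h
    · refine ⟨1, ?_⟩
      rw [one_smul]
      exact congrArg (fun g : Cfsg.isometryGroup F (Cfsg.quadFormPlus n F) =>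
        ((g : GL (Fin n ⊕ Fin n) F) : Matrix (Fin n ⊕ Fin n) (Fin n ⊕ Fin n) F)) h
    · exact ⟨-1, by rw [neg_one_smul]; exact h⟩
  let f : Z →* F :=
    { toFun := fun z => mat z i i
      map_one' := Matrix.one_apply_eq i
      map_mul' := fun g h => by
        obtain ⟨c, hc⟩ := key g
        show (mat g * mat h) i i = _
        rw [hc, Matrix.smul_mul, Matrix.one_mul]
        simp }
  refine isCyclic_of_subgroup_isDomain f fun g h e => hinj ?_
  obtain ⟨c, hc⟩ := key g
  obtain ⟨d, hd⟩ := key h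
  have e' : mat g i i = mat h i i := e
  rw [hc, hd] at e'
  simp only [Matrix.smul_apply, Matrix.one_apply_eq, smul_eq_mul, mul_one] at e'
  rw [hc, hd, e']

theorem pomega_presents {n k r : ℕ} (hn : 3 ≤ n) (h : Presents (Cfsg.Omega F (Cfsg.quadFormPlus n F)) k r) :
    Presents (Cfsg.POmega F (Cfsg.quadFormPlus n F)) k (r + 1) := by
  haveI := finite_omega (F := F) n
  haveI := center_cyclic (F := F) hn
  exact h.quotient _

theorem omega_plus_small {n : ℕ} (h : n = 4 ∨ n = 5) :
    Presents (Cfsg.Omega F (Cfsg.quadFormPlus n F)) 8 29 := by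
  rcases h with rfl | rfl
  · exact ((om_presents (m := 0) CfsgLib.SLPres.Swap.sl_four).addGen).mono (by simp)
  · exact ((om_presents (m := 1) CfsgLib.SLPres.Swap.sl_five).addGen).mono (by simp)

theorem omega_plus_all {n : ℕ} (hn : 4 ≤ n) : Presents (Cfsg.Omega F (Cfsg.quadFormPlus n F)) 8 31 := by
  rcases (show (n = 4 ∨ n = 5) ∨ 6 ≤ n by omega) with h | h
  · exact (omega_plus_small h).mono (by norm_num)
  · obtain ⟨m, rfl⟩ : ∃ m, n = m + 4 := ⟨n - 4, by omega⟩
    exact (om_presents (CfsgLib.SLPres.Swap.sl_presents (show 4 ≤ m + 4 by omega))).mono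
      (by rw [if_neg (by omega)])

end CfsgLib.OmPres
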